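set_option autoImplicit false
namespace Cfsg.Agent.Lib.Helper6.TCD.ONU1
noncomputable def WDL0 (i : Nat) : Nat := Nat.land (Nat.shiftRight 0x50504000000000000505004000000000000040404000000000000404004000000000000030304000000000000303004000000000000020204000000000000202004000000000001010106000000000010101006000000000000005502000000000000004402000000000000003302000000000000002202000000000000001102000000000000000002 (Nat.mul 72 (Nat.land i 15))) 4722366482869645213695
noncomputable def WDL1 (i : Nat) : Nat := Nat.land (Nat.shiftRight 0x34343406000000000043434306000000000000252504000000000000525204000000000000242404000000000000424204232323232323232310323232323232323210000000000000151504000000000000515104000000000000141404000000000000414104000000000000131304000000000000313104000000000012121206000000000021212106 (Nat.mul 72 (Nat.land i 15))) 4722366482869645213695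
noncomputable def WDP0N0 (i : Nat) : Nat := Bool.rec (WDL0 i) (WDL1 i) (Nat.ble 16 i)
noncomputable def WDL2 (i : Nat) : Nat := Nat.land (Nat.shiftRight 0x20532323230a00000005323232320a00000032323235020a00000023232350230a00000032323502320a00000023235023230a00000032350232320a00000023502323230a00000035023232320a00000050232323230a00000002323232350a00000023232323500a000000000045454506000000000054545406000000000000353504000000000000535304 (Nat.mul 72 (Nat.land i 15))) 4722366482869645213695
noncomputable def WDL3 (i : Nat) : Nat := Nat.land (Nat.shiftRight 0x50100000000000000040100000000000000030100000000000000020100000000000000000100000053232323200a00000032323232050a00000023232320530a00000032323205320a00000023232053230a00000032320532320a00000023205323230a00000032053232320a (Nat.mul 72 (Nat.land i 15))) 4722366482869645213695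
noncomputable def WDP0N1 (i : Nat) : Nat := Bool.rec (WDL2 i) (WDL3 i) (Nat.ble 48 i)
noncomputable def WD (i : Nat) : Nat := Bool.rec (WDP0N0 i) (WDP0N1 i) (Nat.ble 32 i)
end Cfsg.Agent.Lib.Helper6.TCD.ONU1
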