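import Cfsg.Agent.Lib.Helper6.TCD.ONU1.SH
import Cfsg.Agent.Lib.Helper6.TCD.ONU1.SC
import Cfsg.Agent.Lib.Helper6.TCD.ONU1.NH
import Cfsg.Agent.Lib.Helper6.TCD.ONU1.NC
import Cfsg.Agent.Lib.Helper6.TCD.ONU1.WD
import Cfsg.Agent.Lib.Helper6.TCD.ONU1.WI
set_option autoImplicit false
namespace Cfsg.Agent.Lib.Helper6.TCD.ONU1
def n : Nat := 5598
def ncol : Nat := 6
def nrw : Nat := 56
def nw : Nat := 61
def tmax : Nat := 33548
def INV : Nat := 5517840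
def N : Nat := 5586
end Cfsg.Agent.Lib.Helper6.TCD.ONU1
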